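import Mathlib
import Cfsg.Prelude.Def_ClassicalGeometry
import Cfsg.Prelude.Def_GeometricClasses
import Cfsg.Agent.Lib.Helper18.T23.H2.SOTDefs
import Cfsg.Agent.Lib.Helper18.T23.H2.SOTGDefs
import Cfsg.Agent.Lib.Helper15.QuadClass
import Cfsg.Agent.Lib.Helper18.T23.H27.SOTLADefs
import Cfsg.Agent.Lib.Helper18.T23.H4.SOTLABasic

/-!
S5666 part (LA), leaf A5 (helper27's sub-market): a non-scalar self-adjoint operator has a nonsingular
non-eigenvector whose perpendicular space contains a nonzero singular vector.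
-/

set_option autoImplicit false
set_option linter.unusedSectionVars false
set_option linter.unusedVariables false

namespace Cfsg.Agent.Lib.Helper18.T23.H4.SOTLALeaf
open Matrix
open Cfsg.Agent.Lib.Helper25.Tens Cfsg.Agent.Lib.Helper25.SpT Cfsg.Agent.Lib.Helper19.OSub
open Cfsg.Agent.Lib.Helper18.T23.H2.SOT Cfsg.Agent.Lib.Helper18.T23.H27.SOTLA
open scoped Kronecker

variable {F : Type*} [Field F] [Fintype F] {a b : ℕ} {G : Matrix (Fin b) (Fin b) F}
  {M : Subgroup (GL (Idx a b) F)}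

/-- self-adjointness in terms of the form -/
lemma selfadj_fB {σ : Matrix (Fin b) (Fin b) F} (hσ : IsSelfAdj G σ) (y y' : Fin b → F) :
    fB G (σ *ᵥ y) y' = fB G y (σ *ᵥ y') := by
  unfold fB
  have hσ' : G * σ = σᵀ * G := hσ
  calc (σ *ᵥ y) ⬝ᵥ (G *ᵥ y') = (y ᵥ* σᵀ) ⬝ᵥ (G *ᵥ y') := by rw [Matrix.vecMul_transpose]
    _ = y ⬝ᵥ (σᵀ *ᵥ (G *ᵥ y')) := (Matrix.dotProduct_mulVec y σᵀ (G *ᵥ y')).symm
    _ = y ⬝ᵥ (G *ᵥ (σ *ᵥ y')) := by rw [Matrix.mulVec_mulVec, ← hσ', ← Matrix.mulVec_mulVec]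

/-- a nonzero singular vector (`b ≥ 3`, finite field) -/
lemma exists_singular_fB (hb : 3 ≤ b) : ∃ z : Fin b → F, z ≠ 0 ∧ fB G z z = 0 := by
  let Q : QuadraticForm F (Fin b → F) := (Matrix.toBilin' G).toQuadraticMap
  have h3 : 3 ≤ Module.finrank F (Fin b → F) := by
    rw [Module.finrank_fin_fun]
    exact hb
  obtain ⟨z, hz, hQ⟩ := Cfsg.Agent.Lib.Helper15.exists_singular_of_three_le Q h3
  refine ⟨z, hz, ?_⟩
  have : Q z = fB G z z := by
    show (Matrix.toBilin' G).toQuadraticMap z = _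
    rw [LinearMap.BilinMap.toQuadraticMap_apply, Matrix.toBilin'_apply']
    rfl
  rw [← this]
  exact hQ

/-- a singular partner `w` of a singular `z ≠ 0` with `fB z w = 1` -/
lemma exists_hyp_partner_aux (hG : Gᵀ = G) (hnd : G.det ≠ 0) (h2 : (2 : F) ≠ 0) {z : Fin b → F}
    (hz : z ≠ 0) (hzz : fB G z z = 0) :
    ∃ w : Fin b → F, fB G w w = 0 ∧ fB G z w = 1 := by
  obtain ⟨y₀, hy₀⟩ := fB_nondeg_aux hnd hz
  obtain ⟨y₁, hy₁⟩ : ∃ y₁ : Fin b → F, y₁ = (fB G z y₀)⁻¹ • y₀ := ⟨_, rfl⟩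
  have h1 : fB G z y₁ = 1 := by
    rw [hy₁, fB_smul_right, inv_mul_cancel₀ hy₀]
  have h1' : fB G y₁ z = 1 := by rw [fB_comm G hG, h1]
  refine ⟨y₁ + (-(fB G y₁ y₁ / 2)) • z, ?_, ?_⟩
  · rw [Q_add hG, fB_smul_right, Q_smul, h1', hzz]
    field_simp
    ring
  · rw [fB_add_right, fB_smul_right, h1, hzz, mul_zero, add_zero]

/-- (A5) plan (SA1), uniform version. -/
theorem exists_noneigen (hG : Gᵀ = G) (hnd : G.det ≠ 0) (h2 : (2 : F) ≠ 0) (hb : 3 ≤ b)
    {σ : Matrix (Fin b) (Fin b) F} (hσ : IsSelfAdj G σ) (hns : ¬ IsScal σ) :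
    ∃ d : Fin b → F, fB G d d ≠ 0 ∧ (∀ c : F, σ *ᵥ d ≠ c • d) ∧
      ∃ z : Fin b → F, z ≠ 0 ∧ fB G z z = 0 ∧ fB G z d = 0 := by
  by_contra hcon
  -- every "good" nonsingular vector is an eigenvector
  have H : ∀ d : Fin b → F, fB G d d ≠ 0 → ∀ z : Fin b → F, z ≠ 0 → fB G z z = 0 → fB G z d = 0 →
      ∃ c : F, σ *ᵥ d = c • d := by
    intro d hd z hz hzz hzd
    by_contra hne
    push Not at hne
    exact hcon ⟨d, hd, hne, z, hz, hzz, hzd⟩
  -- Step 1: a singular vector perpendicular to a nonsingular one shares its eigenvalue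
  have step1 : ∀ (z₁ d₀ : Fin b → F), z₁ ≠ 0 → fB G z₁ z₁ = 0 → fB G d₀ d₀ ≠ 0 → fB G z₁ d₀ = 0 →
      ∃ l : F, σ *ᵥ d₀ = l • d₀ ∧ σ *ᵥ z₁ = l • z₁ := by
    intro z₁ d₀ hz₁ hz₁z₁ hd₀ hz₁d₀
    obtain ⟨l, hl⟩ := H d₀ hd₀ z₁ hz₁ hz₁z₁ hz₁d₀
    have hd₀z₁ : fB G d₀ z₁ = 0 := by rw [fB_comm G hG, hz₁d₀]
    have hQ : fB G (d₀ + z₁) (d₀ + z₁) ≠ 0 := by
      rw [Q_add hG, hd₀z₁, hz₁z₁, mul_zero, add_zero, add_zero]
      exact hd₀
    have hperp : fB G z₁ (d₀ + z₁) = 0 := by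
      rw [fB_add_right, hz₁d₀, hz₁z₁, add_zero]
    obtain ⟨m, hm⟩ := H (d₀ + z₁) hQ z₁ hz₁ hz₁z₁ hperp
    have hσz : σ *ᵥ z₁ = m • (d₀ + z₁) - l • d₀ := by
      rw [← hm, ← hl, Matrix.mulVec_add, add_sub_cancel_left]
    have h1 : fB G (σ *ᵥ z₁) d₀ = 0 := by
      rw [selfadj_fB hσ, hl, fB_smul_right, hz₁d₀, mul_zero]
    have hml : m = l := by
      rw [hσz, fB_sub_left, fB_smul_left, fB_smul_left, fB_add_left, hz₁d₀, add_zero] at h1
      have h3 : (m - l) * fB G d₀ d₀ = 0 := by linear_combination h1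
      rcases mul_eq_zero.mp h3 with h | h
      · exact sub_eq_zero.mp h
      · exact absurd h hd₀
    refine ⟨l, hl, ?_⟩
    rw [hσz, hml, smul_add, add_sub_cancel_left]
  -- the hyperbolic pair
  obtain ⟨z, hz, hzz⟩ := exists_singular_fB (G := G) hb
  obtain ⟨w, hww, hzw⟩ := exists_hyp_partner_aux hG hnd h2 hz hzz
  have hwz : fB G w z = 1 := by rw [fB_comm G hG, hzw]
  have hw : w ≠ 0 := by
    intro h0
    rw [h0, fB_zero_right] at hzw
    exact zero_ne_one hzw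
  -- the projection to `B₀ = ⟨z, w⟩^⊥`
  have hproj : ∀ y : Fin b → F,
      fB G (y - fB G y w • z - fB G y z • w) z = 0 ∧
        fB G (y - fB G y w • z - fB G y z • w) w = 0 := by
    intro y
    constructor
    · rw [fB_sub_left, fB_sub_left, fB_smul_left, fB_smul_left, hzz, hwz]
      ring
    · rw [fB_sub_left, fB_sub_left, fB_smul_left, fB_smul_left, hzw, hww]
      ring
  -- Step 0: a nonsingular vector of `B₀`
  obtain ⟨d₁, hd₁, hd₁z, hd₁w⟩ : ∃ d₁ : Fin b → F, fB G d₁ d₁ ≠ 0 ∧ fB G d₁ z = 0 ∧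
      fB G d₁ w = 0 := by
    let φ : (Fin b → F) →ₗ[F] (Fin 2 → F) :=
      { toFun := fun v => ![fB G v z, fB G v w]
        map_add' := by
          intro v v'
          ext i
          fin_cases i <;> simp [fB_add_left]
        map_smul' := by
          intro c v
          ext i
          fin_cases i <;> simp [fB_smul_left] }
    have hlt : Module.finrank F (Fin 2 → F) < Module.finrank F (Fin b → F) := by
      rw [Module.finrank_fin_fun, Module.finrank_fin_fun]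
      omega
    have hker := LinearMap.ker_ne_bot_of_finrank_lt (f := φ) hlt
    obtain ⟨v, hv, hv0⟩ := (Submodule.ne_bot_iff _).1 hker
    have hvz : fB G v z = 0 := by
      have := congrFun (LinearMap.mem_ker.1 hv) 0
      simpa [φ] using this
    have hvw : fB G v w = 0 := by
      have := congrFun (LinearMap.mem_ker.1 hv) 1
      simpa [φ] using this
    obtain ⟨y, hy⟩ := fB_nondeg_aux hnd hv0
    obtain ⟨e1, e2⟩ := hproj y
    have e3 : fB G v (y - fB G y w • z - fB G y z • w) = fB G v y := by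
      rw [fB_sub_right, fB_sub_right, fB_smul_right, fB_smul_right, hvz, hvw, mul_zero, mul_zero,
        sub_zero, sub_zero]
    have hvy : fB G v (y - fB G y w • z - fB G y z • w) ≠ 0 := by rw [e3]; exact hy
    rcases exists_nonsing_of_pair hG h2 hvy with h | h | h
    · exact ⟨v, h, hvz, hvw⟩
    · exact ⟨_, h, e1, e2⟩
    · refine ⟨_, h, ?_, ?_⟩
      · rw [fB_add_left, hvz, e1, add_zero]
      · rw [fB_add_left, hvw, e2, add_zero]
  have hzd₁ : fB G z d₁ = 0 := by rw [fB_comm G hG, hd₁z]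
  have hwd₁ : fB G w d₁ = 0 := by rw [fB_comm G hG, hd₁w]
  have hd₁0 : d₁ ≠ 0 := by
    intro h0
    apply hd₁
    rw [h0, fB_zero_left]
  -- Step 2: the common eigenvalue
  obtain ⟨l₀, hl₀d, hl₀z⟩ := step1 z d₁ hz hzz hd₁ hzd₁
  have hl₀w : σ *ᵥ w = l₀ • w := by
    obtain ⟨l', hl'd, hl'w⟩ := step1 w d₁ hw hww hd₁ hwd₁
    have : l' = l₀ := by
      have h1 : (l' - l₀) • d₁ = 0 := by
        rw [sub_smul, ← hl'd, ← hl₀d, sub_self]
      rcases smul_eq_zero.mp h1 with h | h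
      · exact sub_eq_zero.mp h
      · exact absurd h hd₁0
    rw [hl'w, this]
  -- Step 3: `σ = l₀` on `B₀`
  have hNS : ∀ y₀ : Fin b → F, fB G y₀ z = 0 → fB G y₀ w = 0 → fB G y₀ y₀ ≠ 0 →
      σ *ᵥ y₀ = l₀ • y₀ := by
    intro y₀ hy₀z hy₀w hQ
    have hzy₀ : fB G z y₀ = 0 := by rw [fB_comm G hG, hy₀z]
    obtain ⟨l, hly, hlz⟩ := step1 z y₀ hz hzz hQ hzy₀
    have : l = l₀ := by
      have h1 : (l - l₀) • z = 0 := by
        rw [sub_smul, ← hlz, ← hl₀z, sub_self]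
      rcases smul_eq_zero.mp h1 with h | h
      · exact sub_eq_zero.mp h
      · exact absurd h hz
    rw [hly, this]
  have hB₀ : ∀ y₀ : Fin b → F, fB G y₀ z = 0 → fB G y₀ w = 0 → σ *ᵥ y₀ = l₀ • y₀ := by
    intro y₀ hy₀z hy₀w
    by_cases hQ : fB G y₀ y₀ = 0
    · obtain ⟨t, ht0, ht⟩ := exists_ne_zero_ne h2 (-(2 * fB G y₀ d₁) / fB G d₁ d₁)
      have hu : σ *ᵥ (y₀ + t • d₁) = l₀ • (y₀ + t • d₁) := by
        apply hNS
        · rw [fB_add_left, fB_smul_left, hy₀z, hd₁z, mul_zero, add_zero]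
        · rw [fB_add_left, fB_smul_left, hy₀w, hd₁w, mul_zero, add_zero]
        · rw [Q_add hG, hQ, fB_smul_right, Q_smul, zero_add]
          have h4 : 2 * (t * fB G y₀ d₁) + t * t * fB G d₁ d₁ =
              t * (2 * fB G y₀ d₁ + t * fB G d₁ d₁) := by ring
          rw [h4]
          apply mul_ne_zero ht0
          intro h0
          apply ht
          field_simp
          linear_combination h0
      rw [Matrix.mulVec_add, Matrix.mulVec_smul, hl₀d, smul_add, smul_comm t l₀ d₁] at hu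
      exact add_right_cancel hu
    · exact hNS y₀ hy₀z hy₀w hQ
  -- Step 4: `σ = l₀` everywhere
  have hall : ∀ y : Fin b → F, σ *ᵥ y = l₀ • y := by
    intro y
    obtain ⟨e1, e2⟩ := hproj y
    have h1 := hB₀ _ e1 e2
    have hy : y = (y - fB G y w • z - fB G y z • w) + fB G y w • z + fB G y z • w := by
      abel
    rw [hy, Matrix.mulVec_add, Matrix.mulVec_add, h1, Matrix.mulVec_smul, Matrix.mulVec_smul,
      hl₀z, hl₀w, smul_add, smul_add, smul_comm (fB G y w) l₀ z, smul_comm (fB G y z) l₀ w]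
  apply hns
  refine ⟨l₀, ?_⟩
  ext k l
  have := congrFun (hall (Pi.single l 1)) k
  rw [Matrix.mulVec_single_one] at this
  simpa [Matrix.one_apply, Pi.single_apply, eq_comm] using this

end Cfsg.Agent.Lib.Helper18.T23.H4.SOTLALeaf
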