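import Mathlib
import Cfsg.Prelude.Def_ClassicalGeometry
import Cfsg.Prelude.Def_GeometricClasses
import Cfsg.Agent.Lib.Helper18.T23.H2.SOTDefs
import Cfsg.Agent.Lib.Helper18.T23.H2.SOTGDefs
import Cfsg.Agent.Lib.Helper18.T23.H27.SOTLADefs

/-!
S5666 part (LA), leaf A8 (helper27's sub-market): LEMMA QU, `(α ⊗ β - 1)² = 0`, `2 ≠ 0` ⟹ `α` or `β` scalar.
Proof by `A`-blocks: `(α²)_{ij} β² - 2 α_{ij} β + δ_{ij} = 0` for all `i, j`.
-/

set_option autoImplicit false
set_option linter.unusedSectionVars false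
set_option linter.unusedVariables false

namespace Cfsg.Agent.Lib.Helper18.T23.H4.SOTLALeaf
open Matrix
open Cfsg.Agent.Lib.Helper25.Tens Cfsg.Agent.Lib.Helper25.SpT Cfsg.Agent.Lib.Helper19.OSub
open Cfsg.Agent.Lib.Helper18.T23.H2.SOT Cfsg.Agent.Lib.Helper18.T23.H27.SOTLA
open scoped Kronecker

variable {F : Type*} [Field F] [Fintype F] {a b : ℕ} {G : Matrix (Fin b) (Fin b) F}
  {M : Subgroup (GL (Idx a b) F)}

/-- a matrix with `β² = k β` and a relation `p β² + q β + 1 = 0` is scalar -/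
lemma isScal_of_sq_of_rel {β : Matrix (Fin b) (Fin b) F} (k p q : F) (h1 : β * β = k • β)
    (h2 : p • (β * β) + q • β + 1 = 0) : IsScal β := by
  rw [h1, smul_smul, ← add_smul] at h2
  -- `(p k + q) β = -1`
  by_cases hm : p * k + q = 0
  · rw [hm, zero_smul, zero_add] at h2
    refine ⟨0, ?_⟩
    rw [zero_smul]
    calc β = β * 1 := (mul_one β).symm
      _ = 0 := by rw [h2, mul_zero]
  · refine ⟨-(p * k + q)⁻¹, ?_⟩
    have h3 : (p * k + q) • β = -1 := eq_neg_of_add_eq_zero_left h2
    calc β = (p * k + q)⁻¹ • ((p * k + q) • β) := by rw [smul_smul, inv_mul_cancel₀ hm, one_smul]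
      _ = -(p * k + q)⁻¹ • (1 : Matrix (Fin b) (Fin b) F) := by rw [h3, smul_neg, neg_smul]

/-- a matrix with `p β² = q β`, `q ≠ 0`, and a relation `p' β² + q' β + 1 = 0` is scalar -/
lemma isScal_of_rel_of_rel {β : Matrix (Fin b) (Fin b) F} (p q p' q' : F) (hq : q ≠ 0)
    (h1 : p • (β * β) = q • β) (h2 : p' • (β * β) + q' • β + 1 = 0) : IsScal β := by
  by_cases hp : p = 0
  · rw [hp, zero_smul] at h1
    refine ⟨0, ?_⟩
    rw [zero_smul]
    calc β = q⁻¹ • (q • β) := by rw [smul_smul, inv_mul_cancel₀ hq, one_smul]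
      _ = 0 := by rw [← h1, smul_zero]
  · apply isScal_of_sq_of_rel (p⁻¹ * q) p' q' _ h2
    calc β * β = p⁻¹ • (p • (β * β)) := by rw [smul_smul, inv_mul_cancel₀ hp, one_smul]
      _ = (p⁻¹ * q) • β := by rw [h1, smul_smul]

/-- (A8) LEMMA QU (plan §2): `(α ⊗ β - 1)² = 0`, `2 ≠ 0` ⟹ `α` or `β` scalar. -/
theorem lemmaQU (h2 : (2 : F) ≠ 0) (α : Matrix (Fin a) (Fin a) F) (β : Matrix (Fin b) (Fin b) F)
    (h : (α ⊗ₖ β - 1) * (α ⊗ₖ β - 1) = (0 : Matrix (Idx a b) (Idx a b) F)) :
    (∃ c : F, α = c • 1) ∨ IsScal β := by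
  by_cases hβ : IsScal β
  · exact Or.inr hβ
  left
  -- the block equations
  have hE : ∀ i j : Fin a, (α * α) i j • (β * β) + (-(2 * α i j)) • β +
      (if i = j then (1 : Matrix (Fin b) (Fin b) F) else 0) = 0 := by
    intro i j
    have h1 : (α ⊗ₖ β - 1) * (α ⊗ₖ β - 1) =
        (α * α) ⊗ₖ (β * β) - α ⊗ₖ β - α ⊗ₖ β + (1 : Matrix (Idx a b) (Idx a b) F) := by
      rw [Matrix.mul_kronecker_mul]
      noncomm_ring
    rw [h1] at h
    have h3 := congrArg (fun X => ablk X i j) h
    simp only [ablk_add, ablk_sub, ablk_kron, ablk_one, ablk_zero] at h3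
    have h4 : (α * α) i j • (β * β) + (-(2 * α i j)) • β +
        (if i = j then (1 : Matrix (Fin b) (Fin b) F) else 0) =
        (α * α) i j • (β * β) - α i j • β - α i j • β +
          (if i = j then (1 : Matrix (Fin b) (Fin b) F) else 0) := by
      rw [neg_smul, two_mul, add_smul]
      abel
    rw [h4]
    exact h3
  have hEd : ∀ i : Fin a, (α * α) i i • (β * β) + (-(2 * α i i)) • β + 1 = 0 := by
    intro i
    have := hE i i
    rwa [if_pos rfl] at this
  -- Step 1: `α` is diagonal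
  have hoff : ∀ i j : Fin a, i ≠ j → α i j = 0 := by
    intro i j hij
    by_contra hne
    apply hβ
    have h1 := hE i j
    rw [if_neg hij, add_zero] at h1
    have h3 : (α * α) i j • (β * β) = (2 * α i j) • β := by
      rw [neg_smul] at h1
      exact eq_of_sub_eq_zero (by rw [sub_eq_add_neg]; exact h1)
    exact isScal_of_rel_of_rel _ _ _ _ (mul_ne_zero h2 hne) h3 (hEd i)
  have hsq : ∀ i : Fin a, (α * α) i i = α i i * α i i := by
    intro i
    rw [Matrix.mul_apply, Finset.sum_eq_single i]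
    · intro j _ hj
      rw [hoff i j (Ne.symm hj), zero_mul]
    · intro hn
      exact absurd (Finset.mem_univ _) hn
  -- Step 2: the diagonal entries coincide
  have hdiag : ∀ i j : Fin a, α i i = α j j := by
    intro i j
    by_contra hne
    apply hβ
    have hi := hEd i
    have hj := hEd j
    rw [hsq] at hi hj
    -- subtract: `(a_i² - a_j²) β² = 2 (a_i - a_j) β`, divide by `a_i - a_j`
    have hsub : (α i i - α j j) ≠ 0 := sub_ne_zero.mpr hne
    have h3 : (α i i + α j j) • (β * β) = (2 : F) • β := by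
      have h4 : (α i i - α j j) • ((α i i + α j j) • (β * β)) = (α i i - α j j) • ((2 : F) • β) := by
        rw [smul_smul, smul_smul]
        have e1 : (α i i - α j j) * (α i i + α j j) = α i i * α i i - α j j * α j j := by ring
        have e2 : (α i i - α j j) * 2 = 2 * α i i - 2 * α j j := by ring
        rw [e1, e2, sub_smul, sub_smul]
        have h5 : (α i i * α i i) • (β * β) + (-(2 * α i i)) • β =
            (α j j * α j j) • (β * β) + (-(2 * α j j)) • β := by
          have := hi.trans hj.symm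
          exact add_right_cancel this
        rw [neg_smul, neg_smul] at h5
        rw [sub_eq_sub_iff_add_eq_add]
        rw [← sub_eq_add_neg, ← sub_eq_add_neg, sub_eq_sub_iff_add_eq_add] at h5
        rw [h5, add_comm]
      calc (α i i + α j j) • (β * β)
          = (α i i - α j j)⁻¹ • ((α i i - α j j) • ((α i i + α j j) • (β * β))) := by
            rw [smul_smul (α i i - α j j)⁻¹, inv_mul_cancel₀ hsub, one_smul]
        _ = (2 : F) • β := by
            rw [h4, smul_smul (α i i - α j j)⁻¹, inv_mul_cancel₀ hsub, one_smul]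
    exact isScal_of_rel_of_rel _ _ _ _ h2 h3 hi
  -- conclusion
  by_cases ha : a = 0
  · subst ha
    exact ⟨0, by ext i; exact i.elim0⟩
  · have ha0 : 0 < a := Nat.pos_of_ne_zero ha
    refine ⟨α ⟨0, ha0⟩ ⟨0, ha0⟩, ?_⟩
    ext i j
    by_cases hij : i = j
    · subst hij
      rw [Matrix.smul_apply, Matrix.one_apply_eq, smul_eq_mul, mul_one]
      exact hdiag i ⟨0, ha0⟩
    · rw [Matrix.smul_apply, Matrix.one_apply_ne hij, smul_zero]
      exact hoff i j hij

end Cfsg.Agent.Lib.Helper18.T23.H4.SOTLALeaf
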